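import Mathlib
import Cfsg.Agent.Helper2.PPrimeResA

set_option autoImplicit false

/-!
# `O^{p'}(E) ≤ D'` (S5142): the twisting lemma

Auxiliary lemmas for `ppn_claim`: the class of "`T`-centric" subgroups, transport of a map of an
invariant subsystem along an element of `Aut_F(T)`, and the formula
`ρ_i(x) = a(f^[i+1](a^i x))` for the maps `ρ_{i+1} = ψ ∘ (a⁻¹ ρ_i a)`.
-/

namespace Cfsg.Agent.PPN

open Cfsg Cfsg.FusionSystem Cfsg.Agent.Lead Cfsg.Agent.Lead.StrongInv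
open Cfsg.Agent.Helper2.PPrimeRes

variable {Ω : Type*} [Group Ω] {S T : Subgroup Ω}

/-- Every `F`-conjugate of `P` contains its centralizer in `T`. -/
def ppnCen (F : FusionSystem S) (T P : Subgroup Ω) : Prop :=
  ∀ Q : Subgroup Ω, F.IsConj P Q → centralizerIn T Q ≤ Q

theorem ppn_iterate {N : Type*} [Group N] (f : N →* N)
    (hf : ∀ u : N, f (u⁻¹ * f u) = u⁻¹ * f u) (k : ℕ) (u : N) :
    f^[k] u = u * (u⁻¹ * f u) ^ k := by
  induction k with
  | zero => simp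
  | succ k ih =>
    rw [Function.iterate_succ_apply', ih, map_mul, map_pow, hf, pow_succ']
    simp [mul_assoc]

theorem ppn_iterate_eq {N : Type*} [Group N] (f : N →* N)
    (hf : ∀ u : N, f (u⁻¹ * f u) = u⁻¹ * f u) (k : ℕ) (hk : ∀ u : N, (u⁻¹ * f u) ^ k = 1)
    (u : N) : f^[k] u = u := by
  rw [ppn_iterate f hf, hk, mul_one]

/-- The class is closed under passing to `F`-conjugates of overgroups. -/
theorem ppnCen_of_le (F : FusionSystem S) {P N R : Subgroup Ω} (hP : ppnCen F T P) (hPN : P ≤ N)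
    (hNR : F.IsConj N R) : ppnCen F T R := by
  intro Q hRQ
  obtain ⟨φ, hφ, rfl⟩ := Fusion.isConj_trans F hNR hRQ
  have h1 := Fusion.restrict_mem F hφ hPN
  have h2 := hP _ ⟨_, h1, rfl⟩
  have hsub : (φ.comp (Subgroup.inclusion hPN)).range ≤ φ.range := by
    rintro _ ⟨x, rfl⟩
    exact ⟨Subgroup.inclusion hPN x, rfl⟩
  have h3 : centralizerIn T φ.range ≤ centralizerIn T (φ.comp (Subgroup.inclusion hPN)).range :=
    inf_le_inf_left _ (Subgroup.centralizer_le hsub)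
  exact (h3.trans h2).trans hsub

/-- Transport of a map of the invariant subsystem `D'` along `α ∈ Aut_F(T)`. -/
theorem ppn_transport (F : FusionSystem S) (D' : FusionSystem T) (hD' : D'.IsInvariantIn F)
    {R : Subgroup Ω} (hRT : R ≤ T) {ρ : R →* Ω} (hρ : ρ ∈ D'.Hom R) (α : MulAut T)
    (hα : α ∈ F.autGroup T) :
    ∃ (R' : Subgroup Ω) (_ : R' ≤ T) (χ : R' →* Ω), χ ∈ D'.Hom R' ∧
      (∀ x : T, ((α x : T) : Ω) ∈ R' ↔ (x : Ω) ∈ R) ∧
      ∀ (x : T) (hx : (x : Ω) ∈ R) (y : R'), (y : Ω) = ((α x : T) : Ω) →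
        χ y = ((α ⟨ρ ⟨x, hx⟩, (D'.le_of_mem hρ).2 ⟨x, hx⟩⟩ : T) : Ω) := by
  obtain ⟨χ, hχ, hv⟩ := hD'.2.2.1 R hRT ρ hρ α hα
  refine ⟨_, ?_, χ, hχ, ?_, ?_⟩
  · rintro _ ⟨y, -, rfl⟩
    exact (α y).2
  · intro x
    constructor
    · rintro ⟨y, hy, hyx⟩
      have h1 : α y = α x := Subtype.ext hyx
      have h2 : y = x := α.injective h1
      rw [← h2]
      exact Subgroup.mem_subgroupOf.mp hy
    · intro hx
      exact ⟨x, Subgroup.mem_subgroupOf.mpr hx, rfl⟩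
  · intro x hx y hy
    have h1 := hv ⟨x, hx⟩ ((D'.le_of_mem hρ).2 ⟨x, hx⟩) (hy ▸ y.2)
    rw [← h1]
    exact congrArg χ (Subtype.ext hy)

end Cfsg.Agent.PPN
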