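import Mathlib
import Cfsg.Agent.PPN.ClaimA

set_option autoImplicit false

/-!
# `O^{p'}(E) ≤ D'` (S5142): the power formula
-/

namespace Cfsg.Agent.PPN

open Cfsg Cfsg.FusionSystem Cfsg.Agent.Lead Cfsg.Agent.Lead.StrongInv
open Cfsg.Agent.Helper2.PPrimeRes

variable {Ω : Type*} [Group Ω] {S T : Subgroup Ω}

/-- With `ψ = a ∘ f` on `N` (`ψ` in the invariant subsystem `D'`, `a ∈ Aut_F(T)`, `f : N → N`), the
map `x ↦ a (f^[i+1] (a^i x))` on `a^{-i}(N)` is a map of `D'`. -/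
theorem ppn_pow_formula (F : FusionSystem S) (D' : FusionSystem T) (hD' : D'.IsInvariantIn F)
    (a : MulAut T) (ha : a ∈ F.autGroup T) {N : Subgroup Ω} (hNT : N ≤ T) {ψ : N →* Ω}
    (hψ : ψ ∈ D'.Hom N) (f : N →* N)
    (hf : ∀ u : N, ψ u = ((a (Subgroup.inclusion hNT (f u)) : T) : Ω)) (i : ℕ) :
    ∃ (R : Subgroup Ω) (_ : R ≤ T) (ρ : R →* Ω), ρ ∈ D'.Hom R ∧
      (∀ x : T, (x : Ω) ∈ R ↔ (((a ^ i) x : T) : Ω) ∈ N) ∧
      ∀ (x : T) (hx : (x : Ω) ∈ R) (u : N), (u : Ω) = (((a ^ i) x : T) : Ω) →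
        ρ ⟨x, hx⟩ = ((a (Subgroup.inclusion hNT (f^[i + 1] u)) : T) : Ω) := by
  induction i with
  | zero =>
    refine ⟨N, hNT, ψ, hψ, fun x => by simp, ?_⟩
    intro x hx u hu
    have hux : u = ⟨x, hx⟩ := Subtype.ext (by rw [hu]; simp)
    rw [← hux, hf u]
    rfl
  | succ i ih =>
    obtain ⟨R, hRT, ρ, hρ, hmem, hval⟩ := ih
    have ha' : a⁻¹ ∈ F.autGroup T := (F.autGroup T).inv_mem ha
    obtain ⟨R', hR'T, χ, hχ, hmem', hval'⟩ := ppn_transport F D' hD' hRT hρ a⁻¹ ha'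
    -- membership in `R'`
    have hmemR' : ∀ x : T, (x : Ω) ∈ R' ↔ ((a x : T) : Ω) ∈ R := by
      intro x
      have := hmem' (a x)
      rwa [MulAut.inv_apply_self] at this
    have hpow : ∀ x : T, (a ^ (i + 1)) x = (a ^ i) (a x) := by
      intro x
      rw [pow_succ, MulAut.mul_apply]
    -- values of `χ`
    have hχval : ∀ (x : T) (hx : (x : Ω) ∈ R') (u : N), (u : Ω) = (((a ^ (i + 1)) x : T) : Ω) →
        χ ⟨x, hx⟩ = ((f^[i + 1] u : N) : Ω) := by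
      intro x hx u hu
      have hax : ((a x : T) : Ω) ∈ R := (hmemR' x).mp hx
      have h1 := hval' (a x) hax ⟨x, hx⟩ (by simp)
      rw [h1]
      have h2 := hval (a x) hax u (by rw [hu, hpow])
      have h3 : (⟨ρ ⟨a x, hax⟩, (D'.le_of_mem hρ).2 ⟨a x, hax⟩⟩ : T) =
          a (Subgroup.inclusion hNT (f^[i + 1] u)) := Subtype.ext h2
      rw [h3, MulAut.inv_apply_self]
      rfl
    have hχN : ∀ y : R', χ y ∈ N := by
      intro y
      have hy : ((a ^ (i + 1)) ⟨y.1, hR'T y.2⟩ : T).1 ∈ N := by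
        rw [hpow]
        exact (hmem _).mp ((hmemR' _).mp y.2)
      have := hχval ⟨y.1, hR'T y.2⟩ y.2 ⟨_, hy⟩ rfl
      rw [show χ y = χ ⟨(⟨y.1, hR'T y.2⟩ : T), y.2⟩ from rfl, this]
      exact (f^[i + 1] _).2
    refine ⟨R', hR'T, ψ.comp (χ.codRestrict N hχN), D'.comp_mem hχ hψ hχN, ?_, ?_⟩
    · intro x
      rw [hmemR', hmem, hpow]
    · intro x hx u hu
      have h1 := hχval x hx u hu
      have h2 : (χ.codRestrict N hχN) ⟨x, hx⟩ = f^[i + 1] u := Subtype.ext h1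
      show ψ ((χ.codRestrict N hχN) ⟨x, hx⟩) = _
      rw [h2, hf, ← Function.iterate_succ_apply' f]

end Cfsg.Agent.PPN
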