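import Mathlib
import Cfsg.Agent.PPN.ClaimB

set_option autoImplicit false

/-!
# `O^{p'}(E) ≤ D'` (S5142): the main induction

`a ∈ Aut_E(T)` whose restriction to a `T`-centric subgroup `P` is a map of the saturated invariant
subsystem `D'` lies in `Aut_{D'}(T)`, given that the `p`-elements of `Aut_E(T)` do.
-/

namespace Cfsg.Agent.PPN

open Cfsg Cfsg.FusionSystem Cfsg.Agent.Lead Cfsg.Agent.Lead.StrongInv
open Cfsg.Agent.Helper2.PPrimeRes

variable {Ω : Type*} [Group Ω] {S T : Subgroup Ω}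

/-- `E`-centric subgroups are in the class, when `E` is invariant in `F`. -/
theorem ppnCen_of_isCentric (F : FusionSystem S) (E : FusionSystem T) (hE : E.IsInvariantIn F)
    {P : Subgroup Ω} (hP : E.IsCentric P) : ppnCen F T P := by
  rintro Q ⟨φ, hφ, rfl⟩
  obtain ⟨α, -, φ₀, hφ₀, hv⟩ := hE.2.2.2 P hP.1 φ hφ
  have hφ₀T : ∀ x : P, φ₀ x ∈ T := (E.le_of_mem hφ₀).2
  have hc := hP.2 φ₀.range ⟨φ₀, hφ₀, rfl⟩
  intro z hz
  obtain ⟨hzT, hzC⟩ := Subgroup.mem_inf.mp hz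
  have hz' : ((α⁻¹ ⟨z, hzT⟩ : T) : Ω) ∈ centralizerIn T φ₀.range := by
    refine Subgroup.mem_inf.mpr ⟨(α⁻¹ ⟨z, hzT⟩ : T).2, ?_⟩
    rw [Subgroup.mem_centralizer_iff]
    rintro _ ⟨x, rfl⟩
    have h1 : φ x * z = z * φ x := (Subgroup.mem_centralizer_iff.mp hzC) (φ x) ⟨x, rfl⟩
    have h2 : α (⟨φ₀ x, hφ₀T x⟩ * α⁻¹ ⟨z, hzT⟩) = α (α⁻¹ ⟨z, hzT⟩ * ⟨φ₀ x, hφ₀T x⟩) := by
      rw [map_mul, map_mul, MulAut.apply_inv_self]
      apply Subtype.ext
      show ((α ⟨φ₀ x, hφ₀T x⟩ : T) : Ω) * z = z * ((α ⟨φ₀ x, hφ₀T x⟩ : T) : Ω)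
      rw [← hv x (hφ₀T x)]
      exact h1
    exact congrArg Subtype.val (α.injective h2)
  obtain ⟨x₀, hx₀⟩ := hc hz'
  refine ⟨x₀, ?_⟩
  rw [hv x₀ (hφ₀T x₀)]
  have h3 : (⟨φ₀ x₀, hφ₀T x₀⟩ : T) = α⁻¹ ⟨z, hzT⟩ := Subtype.ext hx₀
  rw [h3, MulAut.apply_inv_self]

theorem ppn_claim_aux [Finite S] (p : ℕ) [Fact p.Prime] (hS : IsPGroup p S) (F : FusionSystem S)
    (E D' : FusionSystem T) (hEF : E.IsSubsystemOf F) (hD's : D'.IsSaturated p)
    (hD' : D'.IsInvariantIn F)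
    (hloc : ∀ b : MulAut T, b ∈ E.autGroup T → ∀ k : ℕ, orderOf b = p ^ k → b ∈ D'.autGroup T) :
    ∀ (n : ℕ) (a : MulAut T), a ∈ E.autGroup T → ∀ (P : Subgroup Ω) (hPT : P ≤ T),
      ppnCen F T P → resAutS hPT a ∈ D'.Hom P → Nat.card T - Nat.card P = n →
      a ∈ D'.autGroup T := by
  have hp : p.Prime := Fact.out
  have hTS : T ≤ S := Fusion.src_le F (hEF T (Fusion.subtype_mem E le_rfl))
  have hfinT : Finite T := Fusion.finite_of_le hTS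
  have hT : IsPGroup p T := hS.to_le hTS
  intro n
  induction n using Nat.strong_induction_on with
  | _ n ih =>
  intro a ha P hPT hcen hφ hn
  by_cases hPeq : P = T
  · subst hPeq
    rw [Fusion.mem_autGroup_iff D' le_rfl]
    convert hφ using 1
    ext x
    rfl
  have haF : a ∈ F.autGroup T := autGroup_le_of_subsystem F E hEF T ha
  have hlt := Fusion.card_lt_card_normalizerIn hT hPT hPeq
  set N := normalizerIn T P with hNdef
  have hPN : P ≤ N := Fusion.le_normalizerIn hPT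
  have hNT : N ≤ T := inf_le_left
  have hfinN : Finite N := Fusion.finite_of_le (hNT.trans hTS)
  set φ := resAutS hPT a with hφdef
  have hφF : φ ∈ F.Hom P := hD'.1 P hφ
  have hQc : D'.IsCentric φ.range := by
    refine ⟨Fusion.range_le D' hφ, fun Q' hQQ' => ?_⟩
    obtain ⟨φ', hφ', hr⟩ := hQQ'
    exact hcen Q' (Fusion.isConj_trans F ⟨φ, hφF, rfl⟩ ⟨φ', hD'.1 _ hφ', hr⟩)
  have hrec := Fusion.receptive_of_fullyCentralized p hT D' hD's
    (Fusion.fullyCentralized_of_isCentric D' hQc)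
  obtain ⟨ψ₁, hψ₁, hext⟩ := hrec.2 P φ hφ rfl
  have hNext : N ≤ extender T P φ := by
    intro g hg
    apply Subgroup.subset_closure
    refine ⟨hNT hg, (Subgroup.mem_inf.mp hg).2, ((a ⟨g, hNT hg⟩ : T) : Ω), (a _).2,
      fun x hx => ?_⟩
    have h1 : (⟨g * x * g⁻¹, hPT hx⟩ : T) = ⟨g, hNT hg⟩ * ⟨x, hPT x.2⟩ * ⟨g, hNT hg⟩⁻¹ := rfl
    show ((a ⟨g * x * g⁻¹, hPT hx⟩ : T) : Ω) = _
    rw [h1, map_mul, map_mul, map_inv]
    rfl
  set ψ : N →* Ω := ψ₁.comp (Subgroup.inclusion hNext) with hψdef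
  have hψ : ψ ∈ D'.Hom N := Fusion.restrict_mem D' hψ₁ hNext
  have hψP : ∀ (y : N) (_ : (y : Ω) ∈ P), ψ y = ((a ⟨y, hNT y.2⟩ : T) : Ω) :=
    fun y hy => hext y.1 hy (hNext y.2)
  have hψT : ∀ y : N, ψ y ∈ T := (D'.le_of_mem hψ).2
  set ψT : N →* T := ψ.codRestrict T hψT with hψTdef
  have hψTP : ∀ (y : N) (_ : (y : Ω) ∈ P), ψT y = a ⟨y, hNT y.2⟩ :=
    fun y hy => Subtype.ext (hψP y hy)
  set ψ' : N →* T := a⁻¹.toMonoidHom.comp ψT with hψ'def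
  have hψ'a : ∀ u : N, a (ψ' u) = ψT u := fun u => MulAut.apply_inv_self _ _ _
  -- `u⁻¹ ψ'(u)` lies in `P`
  have hc : ∀ u : N, (((Subgroup.inclusion hNT u)⁻¹ * ψ' u : T) : Ω) ∈ P := by
    intro u
    apply hcen P (Fusion.isConj_refl F (hPT.trans hTS))
    refine Subgroup.mem_inf.mpr ⟨((Subgroup.inclusion hNT u)⁻¹ * ψ' u : T).2, ?_⟩
    rw [Subgroup.mem_centralizer_iff]
    intro y hy
    have hun : (u : Ω) * y * (u : Ω)⁻¹ ∈ P := by
      have := (Subgroup.mem_normalizer_iff.mp (Subgroup.mem_inf.mp u.2).2) y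
      exact this.mp hy
    have key : a (Subgroup.inclusion hNT u) * a ⟨y, hPT hy⟩ * (a (Subgroup.inclusion hNT u))⁻¹ =
        ψT u * a ⟨y, hPT hy⟩ * (ψT u)⁻¹ := by
      have h1 := hψTP (u * ⟨y, hPN hy⟩ * u⁻¹) hun
      have h2 := hψTP ⟨y, hPN hy⟩ hy
      rw [map_mul, map_mul, map_inv, h2] at h1
      rw [h1, ← map_inv, ← map_mul, ← map_mul]
      rfl
    have hcomm : ((a (Subgroup.inclusion hNT u))⁻¹ * ψT u) * a ⟨y, hPT hy⟩ =
        a ⟨y, hPT hy⟩ * ((a (Subgroup.inclusion hNT u))⁻¹ * ψT u) := by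
      calc ((a (Subgroup.inclusion hNT u))⁻¹ * ψT u) * a ⟨y, hPT hy⟩
          = (a (Subgroup.inclusion hNT u))⁻¹ * (ψT u * a ⟨y, hPT hy⟩ * (ψT u)⁻¹) * ψT u := by
            group
        _ = (a (Subgroup.inclusion hNT u))⁻¹ * (a (Subgroup.inclusion hNT u) * a ⟨y, hPT hy⟩ *
              (a (Subgroup.inclusion hNT u))⁻¹) * ψT u := by rw [key]
        _ = a ⟨y, hPT hy⟩ * ((a (Subgroup.inclusion hNT u))⁻¹ * ψT u) := by group
    have h3 : a (((Subgroup.inclusion hNT u)⁻¹ * ψ' u) * ⟨y, hPT hy⟩) =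
        a (⟨y, hPT hy⟩ * ((Subgroup.inclusion hNT u)⁻¹ * ψ' u)) := by
      simp only [map_mul, map_inv, hψ'a]
      exact hcomm
    have h4 := a.injective h3
    exact (congrArg Subtype.val h4).symm
  -- the endomorphism `f` of `N`
  have hfN : ∀ u : N, (T.subtype.comp ψ') u ∈ N := by
    intro u
    have h1 := hPN (hc u)
    have h2 : (T.subtype.comp ψ') u = (u : Ω) * (((Subgroup.inclusion hNT u)⁻¹ * ψ' u : T) : Ω) := by
      show ((ψ' u : T) : Ω) = _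
      simp
    rw [h2]
    exact N.mul_mem u.2 h1
  set f : N →* N := (T.subtype.comp ψ').codRestrict N hfN with hfdef
  have hfψ' : ∀ u : N, Subgroup.inclusion hNT (f u) = ψ' u := fun u => Subtype.ext rfl
  have hf : ∀ u : N, ψ u = ((a (Subgroup.inclusion hNT (f u)) : T) : Ω) := by
    intro u
    rw [hfψ', hψ'a]
    rfl
  have hfix : ∀ u : N, f (u⁻¹ * f u) = u⁻¹ * f u := by
    intro u
    have hcP : ((u⁻¹ * f u : N) : Ω) ∈ P := hc u
    have h1 := hψTP (u⁻¹ * f u) hcP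
    have h2 : ψ' (u⁻¹ * f u) = ⟨_, hNT (u⁻¹ * f u).2⟩ := by
      show a⁻¹ (ψT (u⁻¹ * f u)) = _
      rw [h1, MulAut.inv_apply_self]
    apply Subtype.ext
    show ((ψ' (u⁻¹ * f u) : T) : Ω) = _
    rw [h2]
  set J := Nat.card T with hJdef
  have hJpos : 0 < J := Nat.card_pos
  have hfJ : ∀ u : N, f^[J] u = u := by
    apply ppn_iterate_eq f hfix J
    intro u
    obtain ⟨m, hm⟩ := Subgroup.card_dvd_of_le hNT
    rw [hJdef, hm, pow_mul, pow_card_eq_one', one_pow]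
  obtain ⟨R, hRT, ρ, hρ, hmem, hval⟩ := ppn_pow_formula F D' hD' a haF hNT hψ f hf (J - 1)
  have hJ1 : J - 1 + 1 = J := Nat.sub_add_cancel hJpos
  have hres : resAutS hRT (a ^ J) ∈ D'.Hom R := by
    convert hρ using 1
    ext x
    have hu : (((a ^ (J - 1)) ⟨x.1, hRT x.2⟩ : T) : Ω) ∈ N := (hmem _).mp x.2
    have h1 := hval ⟨x.1, hRT x.2⟩ x.2 ⟨_, hu⟩ rfl
    rw [hJ1, hfJ] at h1
    rw [show ρ x = ρ ⟨(⟨x.1, hRT x.2⟩ : T), x.2⟩ from rfl, h1, resAutS_apply]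
    conv_lhs => rw [← hJ1, pow_succ', MulAut.mul_apply]
    rfl
  have hRN : F.IsConj R N := by
    have haiF : a ^ (J - 1) ∈ F.autGroup T := (F.autGroup T).pow_mem haF _
    have h1 := (Fusion.mem_autGroup_iff F hTS _).mp haiF
    have h2 := Fusion.restrict_mem F h1 hRT
    refine ⟨_, h2, ?_⟩
    ext y
    constructor
    · rintro ⟨x, rfl⟩
      exact (hmem ⟨x.1, hRT x.2⟩).mp x.2
    · intro hy
      have hmem' : (((a ^ (J - 1))⁻¹ ⟨y, hNT hy⟩ : T) : Ω) ∈ R := by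
        rw [hmem, MulAut.apply_inv_self]
        exact hy
      refine ⟨⟨_, hmem'⟩, ?_⟩
      show (((a ^ (J - 1)) ((a ^ (J - 1))⁻¹ ⟨y, hNT hy⟩) : T) : Ω) = y
      rw [MulAut.apply_inv_self]
  have hRcen : ppnCen F T R := ppnCen_of_le F hcen hPN (Fusion.isConj_symm F hRN)
  have hcard : Nat.card R = Nat.card N := Fusion.card_eq_of_isConj F hRN
  have hlt' : Nat.card T - Nat.card R < n := by
    have : Nat.card N ≤ Nat.card T := Subgroup.card_le_of_le hNT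
    omega
  have haJ : a ^ J ∈ D'.autGroup T :=
    ih _ hlt' (a ^ J) ((E.autGroup T).pow_mem ha J) R hRT hRcen hres rfl
  -- the `p'`-part
  have hfinA : Finite (MulAut T) := inferInstance
  obtain ⟨e, m, hm', hm⟩ := Nat.exists_eq_pow_mul_and_not_dvd (orderOf_pos a).ne' p hp.ne_one
  have hpow1 : (a ^ m) ^ p ^ e = 1 := by
    rw [← pow_mul, mul_comm, ← hm, pow_orderOf_eq_one]
  obtain ⟨k, -, hk⟩ := (Nat.dvd_prime_pow hp).mp (orderOf_dvd_of_pow_eq_one hpow1)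
  have ham : a ^ m ∈ D'.autGroup T := hloc (a ^ m) ((E.autGroup T).pow_mem ha m) k hk
  obtain ⟨n', hn'⟩ := IsPGroup.exists_card_eq hT
  have hcop : Nat.Coprime J m := by
    rw [hJdef, hn']
    exact Nat.Coprime.pow_left _ (hp.coprime_iff_not_dvd.mpr hm')
  have hbez : (1 : ℤ) = (J : ℤ) * Nat.gcdA J m + (m : ℤ) * Nat.gcdB J m := by
    rw [← Nat.gcd_eq_gcd_ab, hcop.gcd_eq_one]
    simp
  have hafin : a = (a ^ J) ^ (Nat.gcdA J m) * (a ^ m) ^ (Nat.gcdB J m) := by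
    calc a = a ^ (1 : ℤ) := (zpow_one a).symm
      _ = a ^ ((J : ℤ) * Nat.gcdA J m + (m : ℤ) * Nat.gcdB J m) := by rw [← hbez]
      _ = (a ^ J) ^ (Nat.gcdA J m) * (a ^ m) ^ (Nat.gcdB J m) := by
        rw [zpow_add, zpow_mul, zpow_mul, zpow_natCast, zpow_natCast]
  rw [hafin]
  exact (D'.autGroup T).mul_mem ((D'.autGroup T).zpow_mem haJ _) ((D'.autGroup T).zpow_mem ham _)

end Cfsg.Agent.PPN
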