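import Mathlib
import Cfsg.Prelude.Def_FusionComponents
import Cfsg.Agent.Lead.FusionStrongInvD
import Cfsg.Agent.Lead.SylowLemmas
import Cfsg.Agent.Lead.PrimeIdxD
import Cfsg.Agent.Helper6.BcgloA
import Cfsg.Agent.Helper2.PPrimeResC

set_option autoImplicit false
set_option linter.unusedSectionVars false
set_option linter.unusedVariables false

/-!
# S5142, part 1: the local part

`E` a saturated subsystem of `F` over `T`, `D'` a subsystem over `T` invariant in `F`.  Then the elements of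
`p`-power order of `Aut_E(P)`, `P ≤ T`, lie in `Aut_{D'}(P)`; hence `E ∩ D'` has index prime to `p` in `E` and
contains the systems `E0`, `E1` of the construction of `O^{p'}(E)`.
-/

namespace Cfsg.Agent.PPN

open Cfsg Cfsg.FusionSystem Cfsg.Agent.Lead Cfsg.Agent.Lead.StrongInv Cfsg.Agent.Helper6.Bcglo
open Cfsg.Agent.Helper2.PPrimeRes

variable {Ω : Type*} [Group Ω] {S T : Subgroup Ω}

/-- Transport of an automorphism of a strongly invariant subsystem along an isomorphism of `F`. -/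
theorem ppn_congr_mem (F : FusionSystem S) (D' : FusionSystem T) (hSI : SI F D') {P Q : Subgroup Ω}
    (hPT : P ≤ T) {e : P ≃* Q} (he : IsIso F e) {α : MulAut P} (hα : α ∈ D'.autGroup P) :
    MulAut.congr e α ∈ D'.autGroup Q := by
  have hφ := (Fusion.mem_autGroup_iff D' hPT α).mp hα
  obtain ⟨χ, hχ, hχv⟩ := hSI P P le_rfl hPT _ hφ (fun x => (α x).2) _ he
  have heq : (P.subgroupOf P).map (Q.subtype.comp e.toMonoidHom) = Q := by
    ext y
    constructor
    · rintro ⟨x, -, rfl⟩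
      exact (e x).2
    · intro hy
      refine ⟨e.symm ⟨y, hy⟩, ?_, ?_⟩
      · rw [SetLike.mem_coe, Subgroup.mem_subgroupOf]; exact (e.symm ⟨y, hy⟩).2
      · show ((e (e.symm ⟨y, hy⟩) : Q) : Ω) = y
        simp
  obtain ⟨χ', hχ', hχ'v⟩ := Fusion.exists_hom_of_eq D' heq hχ
  have hQT : Q ≤ T := (D'.le_of_mem hχ').1
  rw [Fusion.mem_autGroup_iff D' hQT]
  convert hχ' using 1
  ext y
  show ((e (α (e.symm y)) : Q) : Ω) = χ' y
  have hmem : (Q.subtype.comp e.toMonoidHom) (Subgroup.inclusion le_rfl (e.symm y)) ∈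
      (P.subgroupOf P).map (Q.subtype.comp e.toMonoidHom) := by
    rw [heq]
    exact (e (e.symm y)).2
  have h1 := hχv (e.symm y) hmem
  have h3 : ((Q.subtype.comp e.toMonoidHom) (Subgroup.inclusion le_rfl (e.symm y)) : Ω) = (y : Ω) := by
    show ((e (e.symm y) : Q) : Ω) = y
    simp
  have h2 : χ' y = χ ⟨(Q.subtype.comp e.toMonoidHom) (Subgroup.inclusion le_rfl (e.symm y)), hmem⟩ := by
    have := hχ'v _ hmem (h3 ▸ y.2)
    rw [← this]
    exact app_congr χ' _ _ h3.symm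
  rw [h2, h1]
  rfl

theorem ppn_congr_symm {P Q : Subgroup Ω} (e : P ≃* Q) (α : MulAut P) :
    MulAut.congr e.symm (MulAut.congr e α) = α := by
  ext x
  simp [MulAut.congr]

/-- A subgroup `N`, normalized by `A` and containing a subgroup `U ≤ A` whose order is the `p`-part of
`|A|`, contains the elements of `p`-power order of `A`. -/
theorem ppn_pElement_mem_of_normal {Γ : Type*} [Group Γ] [Finite Γ] {p : ℕ} [Fact p.Prime]
    {A U N : Subgroup Γ} (hUA : U ≤ A) (hU : Nat.card U = p ^ (Nat.card A).factorization p)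
    (hUN : U ≤ N) (hN : ∀ m ∈ A, ∀ n ∈ N, m * n * m⁻¹ ∈ N) {x : Γ} (hx : x ∈ A) (k : ℕ)
    (hk : orderOf x = p ^ k) : x ∈ N := by
  have hZ : IsPGroup p (Subgroup.zpowers x) := by
    rw [IsPGroup.iff_card]
    exact ⟨k, by rw [Nat.card_zpowers, hk]⟩
  have hZA : Subgroup.zpowers x ≤ A := by
    rw [Subgroup.zpowers_le]; exact hx
  obtain ⟨m, hm, hmU⟩ := exists_conj_le_of_card_eq_ppart hUA hU hZA hZ
  have h1 : m * x * m⁻¹ ∈ N := hUN (hmU ⟨x, Subgroup.mem_zpowers x, rfl⟩)
  have h2 := hN m⁻¹ (Subgroup.inv_mem _ hm) _ h1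
  have e : m⁻¹ * (m * x * m⁻¹) * m⁻¹⁻¹ = x := by group
  rwa [e] at h2

/-- The elements of `p`-power order of `Aut_E(P)` lie in `Aut_{D'}(P)`. -/
theorem ppn_pElement_mem [Finite S] (p : ℕ) [Fact p.Prime] (hS : IsPGroup p S) (F : FusionSystem S)
    (hTS : T ≤ S) (E D' : FusionSystem T) (hEs : E.IsSaturated p) (hEF : E.IsSubsystemOf F)
    (hD' : D'.IsInvariantIn F) {P : Subgroup Ω} (hPT : P ≤ T) (a : MulAut P)
    (ha : a ∈ E.autGroup P) (k : ℕ) (hk : orderOf a = p ^ k) : a ∈ D'.autGroup P := by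
  have hfinT : Finite T := Fusion.finite_of_le hTS
  have hSI : SI F D' := SI_of_invariant F D' hD'
  obtain ⟨Q, ⟨φ, hφ, hr⟩, hfa, -⟩ := hEs P hPT
  have hQT : Q ≤ T := hfa.1
  have hfinQ : Finite Q := Fusion.finite_of_le (hQT.trans hTS)
  have heE : IsIso E (Fusion.equivOfRange φ (E.injective_of_mem hφ) hr) := IsIso.of_hom hφ hr
  have heF : IsIso F (Fusion.equivOfRange φ (E.injective_of_mem hφ) hr) := hEF P heE
  set e := Fusion.equivOfRange φ (E.injective_of_mem hφ) hr with he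
  have ha' : MulAut.congr e a ∈ E.autGroup Q := heE.congr_mem ha
  have hk' : orderOf (MulAut.congr e a) = p ^ k := by
    rw [← hk]
    exact MulEquiv.orderOf_eq (MulAut.congr e) a
  have hcard : Nat.card (autInducedBy T Q) = p ^ (Nat.card (E.autGroup Q)).factorization p :=
    (exists_sylow_eq_subgroupOf_iff (E.autGroup Q) (autInducedBy T Q)
      (Fusion.autInducedBy_le_autGroup E hQT)).mp hfa.2
  have h1 : MulAut.congr e a ∈ D'.autGroup Q := by
    apply ppn_pElement_mem_of_normal (Fusion.autInducedBy_le_autGroup E hQT) hcard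
      (Fusion.autInducedBy_le_autGroup D' hQT) ?_ ha' k hk'
    intro m hm n hn
    exact conj_mem_autGroup F D' hSI hTS hQT m n (autGroup_le_of_subsystem F E hEF Q hm) hn
  have h2 := ppn_congr_mem F D' hSI hQT heF.symm h1
  rwa [ppn_congr_symm] at h2

/-- `E ∩ D'` has index prime to `p` in `E`. -/
theorem ppn_inter_index [Finite S] (p : ℕ) [Fact p.Prime] (hS : IsPGroup p S) (F : FusionSystem S)
    (hTS : T ≤ S) (E D' : FusionSystem T) (hEs : E.IsSaturated p) (hEF : E.IsSubsystemOf F)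
    (hD' : D'.IsInvariantIn F) : (interSys E {D'}).HasPrimeToPIndexIn E p := by
  refine ⟨interSys_le E _, fun P hPT => ?_⟩
  rw [Subgroup.map_le_iff_le_comap, Subgroup.closure_le]
  rintro ⟨α, hα⟩ ⟨k, hk⟩
  show α ∈ (interSys E {D'}).autGroup P
  have hk' : orderOf α = p ^ k := by rw [← hk, Subgroup.orderOf_mk]
  have h1 := ppn_pElement_mem p hS F hTS E D' hEs hEF hD' hPT α hα k hk'
  rw [Fusion.mem_autGroup_iff _ hPT]
  refine ⟨(Fusion.mem_autGroup_iff E hPT α).mp hα, fun D hD => ?_⟩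
  rw [Set.mem_singleton_iff] at hD
  rw [hD]
  exact (Fusion.mem_autGroup_iff D' hPT α).mp h1

/-- `E0(E) ≤ D'`. -/
theorem ppn_E0_le [Finite S] (p : ℕ) [Fact p.Prime] (hS : IsPGroup p S) (F : FusionSystem S)
    (hTS : T ≤ S) (E D' : FusionSystem T) (hEs : E.IsSaturated p) (hEF : E.IsSubsystemOf F)
    (hD' : D'.IsInvariantIn F) : (E0 p E).IsSubsystemOf D' := by
  intro P φ hφ
  have h1 := E0_le_of p E (ppn_inter_index p hS F hTS E D' hEs hEF hD') P hφ
  exact h1.2 D' rfl

/-- `E1(E) ≤ D'`. -/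
theorem ppn_E1_le [Finite S] (p : ℕ) [Fact p.Prime] (hS : IsPGroup p S) (F : FusionSystem S)
    (hTS : T ≤ S) (E D' : FusionSystem T) (hEs : E.IsSaturated p) (hEF : E.IsSubsystemOf F)
    (hD' : D'.IsInvariantIn F) : (E1 p E).IsSubsystemOf D' := by
  intro P φ hφ
  exact ppn_E0_le p hS F hTS E D' hEs hEF hD' P (E1_le_E0 p E P hφ)

end Cfsg.Agent.PPN
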