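import Mathlib
import Cfsg.Agent.PPN.Local
import Cfsg.Agent.PPN.ClaimC

set_option autoImplicit false
set_option linter.unusedVariables false

/-!
# `O^{p'}(E) ≤ D'` (S5142): the claim

For `E` and `D'` weakly normal in `F` over the same `T`: an element of `Aut_E(T)` whose restriction to
some `E`-centric subgroup is a map of `D'` lies in `Aut_{D'}(T)`.
-/

namespace Cfsg.Agent.PPN

open Cfsg Cfsg.FusionSystem Cfsg.Agent.Lead Cfsg.Agent.Lead.StrongInv
open Cfsg.Agent.Helper2.PPrimeRes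

variable {Ω : Type*} [Group Ω] {S T : Subgroup Ω}

theorem ppn_claim [Finite S] (p : ℕ) [Fact p.Prime] (hS : IsPGroup p S) (F : FusionSystem S)
    (hF : F.IsSaturated p) (E D' : FusionSystem T) (hE : E.IsWeaklyNormalIn F p)
    (hD' : D'.IsWeaklyNormalIn F p) (a : MulAut T) (ha : a ∈ E.autGroup T) {P : Subgroup Ω}
    (hP : E.IsCentric P) (haP : Helper2.PPrimeRes.resAutS hP.1 a ∈ D'.Hom P) :
    a ∈ D'.autGroup T := by
  have hEF : E.IsSubsystemOf F := hE.2.2.1
  have hTS : T ≤ S := Fusion.src_le F (hEF T (Fusion.subtype_mem E le_rfl))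
  have hloc : ∀ b : MulAut T, b ∈ E.autGroup T → ∀ k : ℕ, orderOf b = p ^ k →
      b ∈ D'.autGroup T := fun b hb k hk =>
    ppn_pElement_mem p hS F hTS E D' hE.1 hEF hD'.2.2 le_rfl b hb k hk
  exact ppn_claim_aux p hS F E D' hEF hD'.1 hD'.2.2 hloc _ a ha P hP.1
    (ppnCen_of_isCentric F E hE.2.2 hP) haP rfl

end Cfsg.Agent.PPN
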